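/-
Central quotients of quasisimple groups, and the bound on a centre given by a Schur multiplier.
-/
import Mathlib
import Cfsg.Prelude.Def_KGroupFacts
import Cfsg.Prelude.Def_SevenCases
import Cfsg.Agent.Lib.Components

set_option autoImplicit false
set_option linter.style.haveILetI false

namespace CfsgLib.CpQuot

open Cfsg Subgroup

universe u v w

/-- A bound on the kernels of stem extensions in `Type` is a bound for perfect central extensions. -/
theorem ker_card_dvd_of_bound {K : Type u} [Group K] [Finite K] [Group.IsPerfect K] {S : Type} [Group S] {n : ℕ}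
    (hA : ∀ (Γ : Type) [Group Γ] [Finite Γ] (σ : Γ →* S), IsStemExtension σ → Nat.card σ.ker ∣ n)
    (σ : K →* S) (hs : Function.Surjective σ) (hc : σ.ker ≤ center K) : Nat.card σ.ker ∣ n := by
  let e : Shrink.{0} K ≃* K := Shrink.mulEquiv
  haveI : Finite (Shrink.{0} K) := Finite.of_equiv K e.symm.toEquiv
  haveI : Group.IsPerfect (Shrink.{0} K) :=
    Group.IsPerfect.ofSurjective (f := e.symm.toMonoidHom) e.symm.surjective
  set τ : Shrink.{0} K →* S := σ.comp e.toMonoidHom
  have hτc : τ.ker ≤ center (Shrink.{0} K) := by
    intro x hx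
    rw [Subgroup.mem_center_iff]
    intro y
    apply e.injective
    rw [map_mul, map_mul]
    exact Subgroup.mem_center_iff.mp (hc (show e x ∈ σ.ker from hx)) (e y)
  have h := hA (Shrink.{0} K) τ ⟨hs.comp e.surjective, hτc, fun x _ => Group.IsPerfect.mem_commutator⟩
  have h2 : τ.ker = σ.ker.comap e.toMonoidHom := by ext x; rfl
  rw [h2] at h
  rwa [Nat.card_congr (e.toEquiv.subtypeEquiv (fun x => Iff.rfl) :
    {x : Shrink.{0} K // x ∈ σ.ker.comap e.toMonoidHom} ≃ {y : K // y ∈ σ.ker})] at h

/-- A finite perfect group mapped onto `S` with central kernel: that kernel divides the multiplier. -/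
theorem ker_card_dvd {K : Type u} [Group K] [Finite K] [Group.IsPerfect K] {S : Type} [Group S] {A : Type v}
    [CommGroup A] (hA : HasSchurMultiplier S A) (σ : K →* S) (hs : Function.Surjective σ)
    (hc : σ.ker ≤ center K) : Nat.card σ.ker ∣ Nat.card A :=
  ker_card_dvd_of_bound (fun Γ _ _ τ hτ => by
    obtain ⟨π, hπ⟩ := hA.2 Γ τ hτ
    exact Subgroup.card_dvd_of_surjective π hπ) σ hs hc

variable {K : Type u} [Group K]

/-- The centre of a group isomorphic to a simple group and quasisimple is trivial. -/
theorem center_eq_bot_of_simple (hK : IsQuasisimple K) {S : Type v} [Group S] [IsSimpleGroup S] (e : K ≃* S) :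
    center K = ⊥ := by
  haveI : IsSimpleGroup K := e.isSimpleGroup_congr.mpr inferInstance
  rcases (inferInstance : (center K).Normal).eq_bot_or_eq_top with h | h
  · exact h
  · exfalso
    haveI := hK.2
    haveI : Subsingleton (K ⧸ center K) := QuotientGroup.subsingleton_iff.mpr h
    exact false_of_nontrivial_of_subsingleton (K ⧸ center K)

/-- An isomorphism carries the centre onto the centre. -/
theorem map_center {H : Type v} [Group H] (e : K ≃* H) : (center K).map (e : K →* H) = center H := by
  ext x
  simp only [Subgroup.mem_map, Subgroup.mem_center_iff, MonoidHom.coe_coe]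
  constructor
  · rintro ⟨y, hy, rfl⟩ z
    obtain ⟨w, rfl⟩ := e.surjective z
    rw [← map_mul, hy w, map_mul]
  · intro hx
    refine ⟨e.symm x, fun w => e.injective ?_, e.apply_symm_apply x⟩
    simp [hx (e w)]

theorem card_center_congr {H : Type v} [Group H] (e : K ≃* H) : Nat.card (center K) = Nat.card (center H) := by
  rw [← map_center e]
  exact (Nat.card_congr ((center K).equivMapOfInjective (e : K →* H) e.injective).toEquiv)

theorem center_quotient (hK : IsQuasisimple K) (N : Subgroup K) [N.Normal] (hN : N ≤ center K) :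
    center (K ⧸ N) = (center K).map (QuotientGroup.mk' N) := by
  haveI := hK.1
  apply le_antisymm
  · intro x hx
    obtain ⟨g, rfl⟩ := QuotientGroup.mk'_surjective N x
    refine Subgroup.mem_map_of_mem _ ?_
    have h : (QuotientGroup.mk g : K ⧸ center K) ∈ center (K ⧸ center K) := by
      rw [Subgroup.mem_center_iff]
      intro y
      obtain ⟨a, rfl⟩ := QuotientGroup.mk_surjective y
      have h1 := Subgroup.mem_center_iff.mp hx (QuotientGroup.mk' N a)
      rw [← map_mul, ← map_mul] at h1
      have h2 := congrArg (QuotientGroup.map N (center K) (MonoidHom.id K) hN) h1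
      exact h2
    rw [Group.IsPerfect.center_quotient_center_eq_bot, Subgroup.mem_bot] at h
    exact (QuotientGroup.eq_one_iff g).mp h
  · rintro x ⟨g, hg, rfl⟩
    rw [Subgroup.mem_center_iff]
    intro y
    obtain ⟨a, rfl⟩ := QuotientGroup.mk'_surjective N y
    rw [← map_mul, ← map_mul, Subgroup.mem_center_iff.mp hg a]

/-- The simple quotient does not change. -/
noncomputable def quotientEquiv (hK : IsQuasisimple K) (N : Subgroup K) [N.Normal] (hN : N ≤ center K) :
    (K ⧸ N) ⧸ center (K ⧸ N) ≃* K ⧸ center K :=
  (QuotientGroup.quotientMulEquivOfEq (center_quotient hK N hN)).trans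
    (QuotientGroup.quotientQuotientEquivQuotient N (center K) hN)

theorem isQuasisimple_quotient (hK : IsQuasisimple K) (N : Subgroup K) [N.Normal] (hN : N ≤ center K) :
    IsQuasisimple (K ⧸ N) := by
  haveI := hK.1
  exact ⟨inferInstance, (quotientEquiv hK N hN).isSimpleGroup_congr.mpr hK.2⟩

theorem isPGroup_center_quotient (hK : IsQuasisimple K) (N : Subgroup K) [N.Normal] (hN : N ≤ center K) {p : ℕ}
    (hp : IsPGroup p (center K)) : IsPGroup p (center (K ⧸ N)) := by
  rw [center_quotient hK N hN]
  exact hp.map _

theorem card_center_quotient [Finite K] (hK : IsQuasisimple K) (N : Subgroup K) [N.Normal] (hN : N ≤ center K) :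
    Nat.card (center K) = Nat.card (center (K ⧸ N)) * Nat.card N := by
  have h1 := Subgroup.card_eq_card_quotient_mul_card_subgroup N
  have h2 := Subgroup.card_eq_card_quotient_mul_card_subgroup (center K)
  have h3 := Subgroup.card_eq_card_quotient_mul_card_subgroup (center (K ⧸ N))
  rw [Nat.card_congr (quotientEquiv hK N hN).toEquiv] at h3
  rw [h3] at h1
  refine Nat.eq_of_mul_eq_mul_left (Nat.card_pos (α := K ⧸ center K)) ?_
  rw [← mul_assoc, ← h1, h2]

end CfsgLib.CpQuot
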